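import Mathlib

/-! `R[u, v]` over `R[u², v²]` in characteristic two. -/

set_option autoImplicit false

noncomputable section

namespace KumCharTwoLib

open MvPolynomial

universe u

variable {R : Type u} [CommRing R]

/-- `q₀(u²,v²) + q₁(u²,v²) u + q₂(u²,v²) v + q₃(u²,v²) u v`. -/
def asm (q0 q1 q2 q3 : MvPolynomial (Fin 2) R) : MvPolynomial (Fin 2) R :=
  expand 2 q0 + expand 2 q1 * X 0 + expand 2 q2 * X 1 + expand 2 q3 * (X 0 * X 1)

theorem asm_mul (q0 q1 q2 q3 r0 r1 r2 r3 : MvPolynomial (Fin 2) R) :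
    asm q0 q1 q2 q3 * asm r0 r1 r2 r3 =
      asm (q0 * r0 + X 0 * (q1 * r1) + X 1 * (q2 * r2) + X 0 * X 1 * (q3 * r3))
        (q0 * r1 + q1 * r0 + X 1 * (q2 * r3 + q3 * r2)) (q0 * r2 + q2 * r0 + X 0 * (q1 * r3 + q3 * r1))
        (q0 * r3 + q3 * r0 + q1 * r2 + q2 * r1) := by
  simp only [asm, map_add, map_mul, expand_X]
  ring

theorem exists_asm (p : MvPolynomial (Fin 2) R) : ∃ q0 q1 q2 q3, p = asm q0 q1 q2 q3 := by
  induction p using MvPolynomial.induction_on with
  | C r => exact ⟨C r, 0, 0, 0, by simp [asm]⟩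
  | add p q hp hq =>
    obtain ⟨a0, a1, a2, a3, rfl⟩ := hp
    obtain ⟨b0, b1, b2, b3, rfl⟩ := hq
    exact ⟨a0 + b0, a1 + b1, a2 + b2, a3 + b3, by simp only [asm, map_add]; ring⟩
  | mul_X p i hp =>
    obtain ⟨a0, a1, a2, a3, rfl⟩ := hp
    fin_cases i
    · exact ⟨a1 * X 0, a0, a3 * X 0, a2, by simp only [asm, map_mul, expand_X, Fin.mk_zero, Fin.isValue, Fin.zero_eta]; ring⟩
    · exact ⟨a2 * X 1, a3 * X 1, a0, a1, by simp only [asm, map_mul, expand_X, Fin.mk_one, Fin.isValue]; ring⟩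

theorem coeff_term (q : MvPolynomial (Fin 2) R) (m e e' : Fin 2 →₀ ℕ) (he : ∀ i, e i ≤ 1) (he' : ∀ i, e' i ≤ 1) :
    coeff (2 • m + e) (expand 2 q * monomial e' 1) = if e = e' then coeff m q else 0 := by
  rw [coeff_mul_monomial']
  by_cases h : e = e'
  · subst h
    rw [if_pos (self_le_add_left _ _), if_pos rfl, add_tsub_cancel_right, mul_one, coeff_expand_smul 2 two_ne_zero]
  · rw [if_neg h]
    obtain ⟨i, hi⟩ := Finsupp.ne_iff.1 h
    split_ifs with hle
    · have hli := hle i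
      rw [coeff_expand_of_not_dvd (i := i), zero_mul]
      simp only [Finsupp.coe_add, Finsupp.coe_smul, Pi.add_apply, Pi.smul_apply, smul_eq_mul] at hli
      have := he i
      have := he' i
      simp only [Finsupp.coe_tsub, Finsupp.coe_add, Finsupp.coe_smul, Pi.sub_apply, Pi.add_apply, Pi.smul_apply,
        smul_eq_mul]
      omega
    · rfl

theorem asm_eq_zero {q0 q1 q2 q3 : MvPolynomial (Fin 2) R} (h : asm q0 q1 q2 q3 = 0) :
    q0 = 0 ∧ q1 = 0 ∧ q2 = 0 ∧ q3 = 0 := by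
  let e1 : Fin 2 →₀ ℕ := Finsupp.single 0 1
  let e2 : Fin 2 →₀ ℕ := Finsupp.single 1 1
  have h0 : ∀ i, (0 : Fin 2 →₀ ℕ) i ≤ 1 := fun i => Nat.zero_le _
  have h1 : ∀ i, e1 i ≤ 1 := fun i => by fin_cases i <;> simp [e1]
  have h2 : ∀ i, e2 i ≤ 1 := fun i => by fin_cases i <;> simp [e2]
  have h3 : ∀ i, (e1 + e2) i ≤ 1 := fun i => by fin_cases i <;> simp [e1, e2]
  have n01 : (0 : Fin 2 →₀ ℕ) ≠ e1 := fun h => by simpa [e1] using DFunLike.congr_fun h 0
  have n02 : (0 : Fin 2 →₀ ℕ) ≠ e2 := fun h => by simpa [e2] using DFunLike.congr_fun h 1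
  have n03 : (0 : Fin 2 →₀ ℕ) ≠ e1 + e2 := fun h => by simpa [e1, e2] using DFunLike.congr_fun h 0
  have n12 : e1 ≠ e2 := fun h => by simpa [e1, e2] using DFunLike.congr_fun h 0
  have n13 : e1 ≠ e1 + e2 := fun h => by simpa [e1, e2] using DFunLike.congr_fun h 1
  have n23 : e2 ≠ e1 + e2 := fun h => by simpa [e1, e2] using DFunLike.congr_fun h 0
  have hh : expand 2 q0 * monomial 0 1 + expand 2 q1 * monomial e1 1 + expand 2 q2 * monomial e2 1 +
      expand 2 q3 * monomial (e1 + e2) 1 = 0 := by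
    rw [← h, asm]
    have : monomial (e1 + e2) (1 : R) = X 0 * X 1 := by rw [X, X, monomial_mul, mul_one]
    rw [this]
    simp [e1, e2, X]
  have key : ∀ (m e : Fin 2 →₀ ℕ), (∀ i, e i ≤ 1) →
      (if e = 0 then coeff m q0 else 0) + (if e = e1 then coeff m q1 else 0) + (if e = e2 then coeff m q2 else 0) +
        (if e = e1 + e2 then coeff m q3 else 0) = 0 := fun m e he => by
    have := congrArg (coeff (2 • m + e)) hh
    rw [coeff_add, coeff_add, coeff_add, coeff_term _ _ _ _ he h0, coeff_term _ _ _ _ he h1,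
      coeff_term _ _ _ _ he h2, coeff_term _ _ _ _ he h3, coeff_zero] at this
    exact this
  refine ⟨ext _ _ fun m => ?_, ext _ _ fun m => ?_, ext _ _ fun m => ?_, ext _ _ fun m => ?_⟩
  · simpa [n01, n02, n03] using key m 0 h0
  · simpa [n01.symm, n12, n13] using key m e1 h1
  · simpa [n02.symm, n12.symm, n23] using key m e2 h2
  · simpa [n03.symm, n13.symm, n23.symm] using key m _ h3

theorem eq_zero_of_X_mul {i : Fin 2} {p : MvPolynomial (Fin 2) R} (h : X i * p = 0) : p = 0 :=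
  ext _ _ fun m => by simpa using (coeff_X_mul m i p).symm.trans (congrArg (coeff (Finsupp.single i 1 + m)) h)

theorem eq_zero_of_C_unit_mul {σ : Type*} {τ : R} (hτ : IsUnit τ) {p : MvPolynomial σ R} (h : C τ * p = 0) : p = 0 :=
  (hτ.map C).mul_right_eq_zero.1 h

variable [CharP R 2]

theorem der_expand (D : Derivation R (MvPolynomial (Fin 2) R) (MvPolynomial (Fin 2) R)) (q : MvPolynomial (Fin 2) R) :
    D (expand 2 q) = 0 := by
  induction q using MvPolynomial.induction_on with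
  | C r => rw [expand_C, ← algebraMap_eq]; exact D.map_algebraMap r
  | add p q hp hq => rw [map_add, map_add, hp, hq, add_zero]
  | mul_X p i hp =>
    rw [map_mul, expand_X, D.leibniz, hp, smul_zero, add_zero, D.leibniz_pow]
    simp [CharTwo.two_nsmul, CharTwo.two_eq_zero]

theorem der_asm (D : Derivation R (MvPolynomial (Fin 2) R) (MvPolynomial (Fin 2) R))
    (q0 q1 q2 q3 : MvPolynomial (Fin 2) R) :
    D (asm q0 q1 q2 q3) = expand 2 q1 * D (X 0) + expand 2 q2 * D (X 1) +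
      expand 2 q3 * (X 0 * D (X 1) + X 1 * D (X 0)) := by
  simp only [asm, map_add, D.leibniz, der_expand, smul_zero, add_zero, zero_add, mul_zero, smul_eq_mul]

theorem asm_sq (Q1 Q2 Q3 : MvPolynomial (Fin 2) R) :
    asm 0 Q1 Q2 Q3 ^ 2 = expand 2 (Q1 ^ 2 * X 0 + Q2 ^ 2 * X 1 + Q3 ^ 2 * (X 0 * X 1)) := by
  simp only [asm, map_zero, zero_add, CharTwo.add_sq, map_add, map_mul, map_pow, expand_X]
  ring

/-- The kernel of `(a, b, c) ↦ (u², v², g)`. -/
theorem ker_aeval_eq_span (Q1 Q2 Q3 : MvPolynomial (Fin 2) R) (hQ3 : ∀ p, p * Q3 = 0 → p = 0) :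
    RingHom.ker (aeval (R := R) (S₁ := MvPolynomial (Fin 2) R) ![X 0 ^ 2, X 1 ^ 2, asm 0 Q1 Q2 Q3]) =
      Ideal.span {(X 2 ^ 2 + rename Fin.castSucc (Q1 ^ 2 * X 0 + Q2 ^ 2 * X 1 + Q3 ^ 2 * (X 0 * X 1)) :
        MvPolynomial (Fin 3) R)} := by
  set G := Q1 ^ 2 * X 0 + Q2 ^ 2 * X 1 + Q3 ^ 2 * (X 0 * X 1)
  set ψ := aeval (R := R) (S₁ := MvPolynomial (Fin 2) R) ![X 0 ^ 2, X 1 ^ 2, asm 0 Q1 Q2 Q3]
  have hι : ∀ q, ψ (rename Fin.castSucc q) = expand 2 q := fun q => by
    induction q using MvPolynomial.induction_on with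
    | C r => simp [ψ]
    | add p q hp hq => simp only [map_add, hp, hq]
    | mul_X p i hp => rw [map_mul, map_mul, map_mul, hp, rename_X, expand_X]; fin_cases i <;> simp [ψ]
  have hc : ψ (X 2) = asm 0 Q1 Q2 Q3 := by simp [ψ]
  have hr : ψ (X 2 ^ 2 + rename Fin.castSucc G) = 0 := by
    rw [map_add, map_pow, hc, asm_sq, hι, CharTwo.add_self_eq_zero]
  refine le_antisymm (fun p hp => ?_) (Ideal.span_le.2 (by rintro _ rfl; exact hr))
  obtain ⟨p0, p1, hd⟩ : ∃ p0 p1, p + (rename Fin.castSucc p0 + rename Fin.castSucc p1 * X 2) ∈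
      Ideal.span {(X 2 ^ 2 + rename Fin.castSucc G : MvPolynomial (Fin 3) R)} := by
    clear hp
    induction p using MvPolynomial.induction_on with
    | C r => exact ⟨C r, 0, by simp [CharTwo.add_self_eq_zero]⟩
    | add p q hp hq =>
      obtain ⟨a0, a1, ha⟩ := hp
      obtain ⟨b0, b1, hb⟩ := hq
      refine ⟨a0 + b0, a1 + b1, ?_⟩
      convert add_mem ha hb using 1
      simp only [map_add]; ring
    | mul_X p i hp =>
      obtain ⟨a0, a1, ha⟩ := hp
      induction i using Fin.lastCases with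
      | last =>
        refine ⟨a1 * G, a0, ?_⟩
        convert add_mem (Ideal.mul_mem_right (X 2) _ ha)
          (Ideal.mul_mem_left _ (rename Fin.castSucc a1) (Ideal.mem_span_singleton_self _)) using 1
        rw [show Fin.last 2 = (2 : Fin 3) from rfl, map_mul]
        linear_combination (rename Fin.castSucc a1 * X 2 ^ 2) * (CharTwo.two_eq_zero (R := MvPolynomial (Fin 3) R)) * (-1)
      | cast j =>
        refine ⟨a0 * X j, a1 * X j, ?_⟩
        convert Ideal.mul_mem_right (X j.castSucc) _ ha using 1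
        simp only [map_mul, rename_X]; ring
  have h0 : ψ (rename Fin.castSucc p0 + rename Fin.castSucc p1 * X 2) = 0 := by
    have h1 : ψ (p + (rename Fin.castSucc p0 + rename Fin.castSucc p1 * X 2)) = 0 :=
      RingHom.mem_ker.1 ((Ideal.span_le.2 (by rintro _ rfl; exact hr) : _ ≤ RingHom.ker ψ) hd)
    rwa [map_add, RingHom.mem_ker.1 hp, zero_add] at h1
  rw [map_add, map_mul, hι, hι, hc] at h0
  have h1 : asm p0 (p1 * Q1) (p1 * Q2) (p1 * Q3) = 0 := by
    rw [← h0]; simp only [asm, map_mul, map_zero]; ring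
  obtain ⟨e0, -, -, e3⟩ := asm_eq_zero h1
  rw [e0, hQ3 p1 e3, map_zero, zero_mul, add_zero, add_zero] at hd
  exact hd

theorem expand_mem_adjoin {s : Set (MvPolynomial (Fin 2) R)} (h0 : X 0 ^ 2 ∈ s) (h1 : X 1 ^ 2 ∈ s)
    (q : MvPolynomial (Fin 2) R) : expand 2 q ∈ Algebra.adjoin R s := by
  induction q using MvPolynomial.induction_on with
  | C r => rw [expand_C]; exact Subalgebra.algebraMap_mem _ r
  | add p q hp hq => rw [map_add]; exact add_mem hp hq
  | mul_X p i hp =>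
    rw [map_mul, expand_X]
    refine mul_mem hp ?_
    fin_cases i
    · exact Algebra.subset_adjoin h0
    · exact Algebra.subset_adjoin h1

theorem cusp_form {a : MvPolynomial (Fin 2) R}
    (ha : a ∈ Algebra.adjoin R ({X 0 ^ 2, X 0 ^ 3, X 1 ^ 2, X 1 ^ 3} : Set (MvPolynomial (Fin 2) R))) :
    ∃ q0 b1 b2 b3, a = asm q0 (X 0 * b1) (X 1 * b2) (X 0 * X 1 * b3) := by
  induction ha using Algebra.adjoin_induction with
  | mem x hx =>
    rcases hx with rfl | rfl | rfl | rfl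
    · exact ⟨X 0, 0, 0, 0, by simp [asm]⟩
    · exact ⟨0, 1, 0, 0, by simp [asm]; ring⟩
    · exact ⟨X 1, 0, 0, 0, by simp [asm]⟩
    · exact ⟨0, 0, 1, 0, by simp [asm]; ring⟩
  | algebraMap r => exact ⟨C r, 0, 0, 0, by simp [asm]⟩
  | add x y _ _ hx hy =>
    obtain ⟨a0, a1, a2, a3, rfl⟩ := hx
    obtain ⟨b0, b1, b2, b3, rfl⟩ := hy
    exact ⟨a0 + b0, a1 + b1, a2 + b2, a3 + b3, by simp only [asm, map_add, map_mul]; ring⟩
  | mul x y _ _ hx hy =>
    obtain ⟨a0, a1, a2, a3, rfl⟩ := hx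
    obtain ⟨b0, b1, b2, b3, rfl⟩ := hy
    rw [asm_mul]
    exact ⟨_, a0 * b1 + a1 * b0 + X 1 * X 1 * X 1 * (a2 * b3 + a3 * b2), a0 * b2 + a2 * b0 + X 0 * X 0 * X 0 * (a1 * b3 + a3 * b1),
      a0 * b3 + a3 * b0 + a1 * b2 + a2 * b1, by congr 1 <;> ring⟩

variable {τ : R}

theorem cusp_der_iff (hτ : IsUnit τ) (L S : MvPolynomial (Fin 2) R)
    (D : Derivation R (MvPolynomial (Fin 2) R) (MvPolynomial (Fin 2) R))
    (hu : D (X 0) = asm (X 1 * L) (C τ * X 0 * X 1) 0 0) (hv : D (X 1) = asm (X 0 * S) 0 (C τ * X 0 * X 1) 0)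
    (a : MvPolynomial (Fin 2) R)
    (ha : a ∈ Algebra.adjoin R ({X 0 ^ 2, X 0 ^ 3, X 1 ^ 2, X 1 ^ 3} : Set (MvPolynomial (Fin 2) R))) :
    D a = 0 ↔ a ∈ Algebra.adjoin R
      ({X 0 ^ 2, X 1 ^ 2, asm 0 (S * X 0) (L * X 1) (C τ * X 0 * X 1)} : Set (MvPolynomial (Fin 2) R)) := by
  have hD : ∀ q0 q1 q2 q3, D (asm q0 q1 q2 q3) = asm (q1 * (X 1 * L) + q2 * (X 0 * S))
      (q1 * (C τ * X 0 * X 1) + q3 * (X 0 * S)) (q2 * (C τ * X 0 * X 1) + q3 * (X 1 * L)) 0 := fun q0 q1 q2 q3 => by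
    rw [der_asm, hu, hv]
    simp only [asm, map_add, map_mul, map_zero, expand_X]
    linear_combination (expand 2 q3 * (expand 2 (C τ) * X 0 ^ 2 * X 1 ^ 2) * (X 0 * X 1)) *
      (CharTwo.two_eq_zero (R := MvPolynomial (Fin 2) R))
  constructor
  · intro h
    obtain ⟨q0, b1, b2, b3, rfl⟩ := cusp_form ha
    rw [hD] at h
    obtain ⟨-, h1, h2, -⟩ := asm_eq_zero h
    have e1 : C τ * b1 + S * b3 = 0 := eq_zero_of_X_mul (i := 0) (eq_zero_of_X_mul (i := 0)
      (eq_zero_of_X_mul (i := 1) (by linear_combination h1)))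
    have e2 : C τ * b2 + L * b3 = 0 := eq_zero_of_X_mul (i := 1) (eq_zero_of_X_mul (i := 0)
      (eq_zero_of_X_mul (i := 1) (by linear_combination h2)))
    obtain ⟨w, rfl⟩ : ∃ w, b3 = C τ * w := ⟨C ((hτ.unit⁻¹ : Rˣ) : R) * b3, by
      rw [← mul_assoc, ← map_mul, IsUnit.mul_val_inv, map_one, one_mul]⟩
    have f1 : b1 = S * w := sub_eq_zero.1 (eq_zero_of_C_unit_mul hτ (by
      linear_combination e1 - S * C τ * w * (CharTwo.two_eq_zero (R := MvPolynomial (Fin 2) R))))
    have f2 : b2 = L * w := sub_eq_zero.1 (eq_zero_of_C_unit_mul hτ (by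
      linear_combination e2 - L * C τ * w * (CharTwo.two_eq_zero (R := MvPolynomial (Fin 2) R))))
    subst f1 f2
    have heq : asm q0 (X 0 * (S * w)) (X 1 * (L * w)) (X 0 * X 1 * (C τ * w)) =
        expand 2 q0 + expand 2 w * asm 0 (S * X 0) (L * X 1) (C τ * X 0 * X 1) := by
      simp only [asm, map_zero, map_mul]; ring
    rw [heq]
    exact add_mem (expand_mem_adjoin (by simp) (by simp) _)
      (mul_mem (expand_mem_adjoin (by simp) (by simp) _) (Algebra.subset_adjoin (by simp)))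
  · intro h
    clear ha
    induction h using Algebra.adjoin_induction with
    | mem x hx =>
      rcases hx with rfl | rfl | rfl
      · rw [← expand_X]; exact der_expand D _
      · rw [← expand_X]; exact der_expand D _
      · rw [hD]
        have : ∀ p : MvPolynomial (Fin 2) R, p + p = 0 := CharTwo.add_self_eq_zero
        rw [show S * X 0 * (X 1 * L) + L * X 1 * (X 0 * S) = 0 by rw [← this (S * X 0 * (X 1 * L))]; ring,
          show S * X 0 * (C τ * X 0 * X 1) + C τ * X 0 * X 1 * (X 0 * S) = 0 by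
            rw [← this (S * X 0 * (C τ * X 0 * X 1))]; ring,
          show L * X 1 * (C τ * X 0 * X 1) + C τ * X 0 * X 1 * (X 1 * L) = 0 by
            rw [← this (L * X 1 * (C τ * X 0 * X 1))]; ring]
        simp [asm]
    | algebraMap r => exact D.map_algebraMap r
    | add x y _ _ hx hy => rw [map_add, hx, hy, add_zero]
    | mul x y _ _ hx hy => rw [D.leibniz, hx, hy, smul_zero, smul_zero, add_zero]

theorem smooth_der_iff (hτ : IsUnit τ) (L S : MvPolynomial (Fin 2) R)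
    (D : Derivation R (MvPolynomial (Fin 2) R) (MvPolynomial (Fin 2) R))
    (hu : D (X 0) = asm L (C τ) 0 0) (hv : D (X 1) = asm S 0 (C τ) 0) (a : MvPolynomial (Fin 2) R) :
    D a = 0 ↔ a ∈ (aeval (R := R) (S₁ := MvPolynomial (Fin 2) R) ![X 0 ^ 2, X 1 ^ 2, asm 0 S L (C τ)]).range := by
  set ψ := aeval (R := R) (S₁ := MvPolynomial (Fin 2) R) ![X 0 ^ 2, X 1 ^ 2, asm 0 S L (C τ)]
  have hD : ∀ q0 q1 q2 q3, D (asm q0 q1 q2 q3) = asm (q1 * L + q2 * S)
      (q1 * C τ + q3 * S) (q2 * C τ + q3 * L) 0 := fun q0 q1 q2 q3 => by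
    rw [der_asm, hu, hv]
    simp only [asm, map_add, map_mul, map_zero]
    linear_combination (expand 2 q3 * expand 2 (C τ) * (X 0 * X 1)) *
      (CharTwo.two_eq_zero (R := MvPolynomial (Fin 2) R))
  have hι : ∀ q, expand 2 q ∈ ψ.range := fun q => by
    induction q using MvPolynomial.induction_on with
    | C r => rw [expand_C]; exact Subalgebra.algebraMap_mem _ r
    | add p q hp hq => rw [map_add]; exact add_mem hp hq
    | mul_X p i hp =>
      rw [map_mul, expand_X]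
      refine mul_mem hp ?_
      fin_cases i
      · exact ⟨X 0, by simp [ψ]⟩
      · exact ⟨X 1, by simp [ψ]⟩
  constructor
  · intro h
    obtain ⟨q0, b1, b2, b3, rfl⟩ := exists_asm a
    rw [hD] at h
    obtain ⟨-, e1, e2, -⟩ := asm_eq_zero h
    obtain ⟨w, rfl⟩ : ∃ w, b3 = C τ * w := ⟨C ((hτ.unit⁻¹ : Rˣ) : R) * b3, by
      rw [← mul_assoc, ← map_mul, IsUnit.mul_val_inv, map_one, one_mul]⟩
    have f1 : b1 = S * w := sub_eq_zero.1 (eq_zero_of_C_unit_mul hτ (by
      linear_combination e1 - S * C τ * w * (CharTwo.two_eq_zero (R := MvPolynomial (Fin 2) R))))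
    have f2 : b2 = L * w := sub_eq_zero.1 (eq_zero_of_C_unit_mul hτ (by
      linear_combination e2 - L * C τ * w * (CharTwo.two_eq_zero (R := MvPolynomial (Fin 2) R))))
    subst f1 f2
    have heq : asm q0 (S * w) (L * w) (C τ * w) = expand 2 q0 + expand 2 w * asm 0 S L (C τ) := by
      simp only [asm, map_zero, map_mul]; ring
    rw [heq]
    exact add_mem (hι _) (mul_mem (hι _) ⟨X 2, by simp [ψ]⟩)
  · rintro ⟨b, rfl⟩
    show D (ψ b) = 0
    induction b using MvPolynomial.induction_on with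
    | C r => simp [ψ]
    | add p q hp hq => simp only [map_add, hp, hq, add_zero]
    | mul_X p i hp =>
      rw [map_mul, D.leibniz, hp, smul_zero, add_zero]
      refine (congrArg (ψ p • ·) ?_).trans (smul_zero _)
      fin_cases i
      · simp only [ψ, aeval_X]; show D (X 0 ^ 2) = 0; rw [← expand_X]; exact der_expand D _
      · simp only [ψ, aeval_X]; show D (X 1 ^ 2) = 0; rw [← expand_X]; exact der_expand D _
      · simp only [ψ, aeval_X]
        show D (asm 0 S L (C τ)) = 0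
        have hz : ∀ p : MvPolynomial (Fin 2) R, p + p = 0 := CharTwo.add_self_eq_zero
        rw [hD, show S * L + L * S = 0 by rw [← hz (S * L)]; ring,
          show S * C τ + C τ * S = 0 by rw [← hz (S * C τ)]; ring,
          show L * C τ + C τ * L = 0 by rw [← hz (L * C τ)]; ring]
        simp [asm]

end KumCharTwoLib
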